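import Mathlib.AlgebraicGeometry.Sites.Fpqc
import Mathlib.AlgebraicGeometry.Morphisms.UniversallyOpen

set_option autoImplicit false
universe u
open CategoryTheory AlgebraicGeometry CategoryTheory.Limits

namespace Groth.Agent.H51

/-- If `g i : W i ⟶ X` are jointly surjective and every `g i ≫ f` is an open map, then so is `f`. -/
theorem isOpenMap_of_jointly_surjective_comp {ι : Type*} {X Y : Scheme.{u}} (f : X ⟶ Y)
    {W : ι → Scheme.{u}} (g : ∀ i, W i ⟶ X) (hsurj : ∀ x : X, ∃ i, x ∈ Set.range (g i))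
    (h : ∀ i, IsOpenMap (g i ≫ f)) : IsOpenMap f := by
  intro U hU
  have : (f : X → Y) '' U = ⋃ i, ((g i ≫ f : W i ⟶ Y) : W i → Y) '' ((g i) ⁻¹' U) := by
    ext y
    simp only [Set.mem_image, Set.mem_iUnion, Set.mem_preimage, Scheme.Hom.comp_apply]
    constructor
    · rintro ⟨x, hx, rfl⟩
      obtain ⟨i, z, rfl⟩ := hsurj x
      exact ⟨i, z, hx, rfl⟩
    · rintro ⟨i, z, hz, rfl⟩
      exact ⟨_, hz, rfl⟩
  rw [this]
  exact isOpen_iUnion fun i ↦ h i _ (hU.preimage (g i).continuous)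

/-- If `g i : W i ⟶ X` are jointly surjective and every `g i ≫ f` is universally open,
then so is `f`. -/
theorem universallyOpen_of_jointly_surjective_comp {ι : Type*} {X Y : Scheme.{u}} (f : X ⟶ Y)
    {W : ι → Scheme.{u}} (g : ∀ i, W i ⟶ X) (hsurj : ∀ x : X, ∃ i, x ∈ Set.range (g i))
    (h : ∀ i, UniversallyOpen (g i ≫ f)) : UniversallyOpen f := by
  rw [UniversallyOpen.eq]
  intro X' Y' i₁ i₂ f' hpb
  refine isOpenMap_of_jointly_surjective_comp f' (fun i ↦ pullback.fst i₁ (g i)) ?_ ?_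
  · intro x'
    obtain ⟨i, z, hz⟩ := hsurj (i₁ x')
    obtain ⟨w, hw, -⟩ := Scheme.Pullback.exists_preimage_pullback x' z hz.symm
    exact ⟨i, w, hw⟩
  · intro i
    have hpb' : IsPullback (pullback.fst i₁ (g i) ≫ f') (pullback.snd i₁ (g i)) i₂ (g i ≫ f) :=
      (IsPullback.of_hasPullback i₁ (g i)).paste_horiz hpb |>.flip |>.flip
    have := (h i)
    rw [UniversallyOpen.eq] at this
    exact this _ _ _ hpb'

end Groth.Agent.H51
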